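import Groth.Agent.L03.Growth.Image
import Groth.Agent.L11.Asymp.Sheaf
import Groth.Agent.L22.Inter.PullNum
import Groth.Agent.L03.SurfFib.RelCanRank

/-!
Cohomology of powers of invertible modules along generically finite morphisms.
-/

set_option autoImplicit false
set_option backward.isDefEq.respectTransparency false
set_option backward.isDefEq.respectTransparency.types false
set_option linter.style.haveILetI false
set_option linter.unusedSectionVars false
universe u

open CategoryTheory CategoryTheory.Limits AlgebraicGeometry TopologicalSpace Opposite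

noncomputable section

namespace Groth.L03.Growth

open Groth.L16 Groth.L03.Euler
open Groth.L16.CohSupport (len)
open Groth.L11.Asymp (hd hd_def hd_iso hd_mid_le hd_left_le hd_right_le)
open Groth.L00.Tensor (tensorIso tensorComm tensorUnitLeft tensorRightF)
open Groth.L17.GenericTrivPush (dim)

section Push

variable (k : Type u) [Field k] {X Y : Scheme.{u}} [X.Over (Spec (CommRingCat.of k))]
  [Y.Over (Spec (CommRingCat.of k))] (f : Y ⟶ X)
  (hf : f ≫ (X ↘ Spec (CommRingCat.of k)) = Y ↘ Spec (CommRingCat.of k))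

include hf

/-- Cohomology of twisted acyclic direct images. -/
theorem hd_push_of_acyclic [IsProper f] [X.IsSeparated] [HasInjectiveResolutions Y.Modules]
    {G : Y.Modules} [Coh.IsQCoh G] (h : ∀ q : ℕ, IsZero ((Coh.Rpush f (q + 1)).obj G))
    {P : X.Modules} (hP : PicF.IsInvertible P) (i : ℕ) :
    hd k i (CohB1.tensorMod ((Scheme.Modules.pushforward f).obj G) P) =
      hd k i (CohB1.tensorMod G ((Scheme.Modules.pullback f).obj P)) := by
  have hE : FlatMod.IsFinLocFree P := Groth.L16.Existence.isFinLocFree_of_isInvertible hP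
  haveI := Groth.L17.ProjFormula.isIso_θ f P G hE
  haveI : Coh.IsQCoh ((Scheme.Modules.pullback f).obj P) :=
    Groth.L29.DC.PCQCoh.isQCoh_of_isFinLocFree (Groth.L29.LocFree.pullback f hE)
  haveI := Groth.L00.Tensor.isQCoh_tensorMod ((Scheme.Modules.pullback f).obj P) G
  set M := CohB1.tensorMod ((Scheme.Modules.pullback f).obj P) G
  have hz : ∀ q : ℕ, IsZero ((Coh.Rpush f (q + 1)).obj M) := fun q => by
    obtain ⟨j⟩ := Groth.L17.ProjFormula.nonempty_Rpush_iso f (A := G) (N := P) hE (q + 1)
    exact IsZero.of_iso ((Groth.L00.Tensor.tensorLeftF P).map_isZero (h q)) j.symm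
  rw [hd_iso k (tensorComm ((Scheme.Modules.pushforward f).obj G) P) i,
    hd_iso k (tensorComm G ((Scheme.Modules.pullback f).obj P)) i,
    hd_iso k (asIso (Groth.L17.ClosedPush.θ f G P)) i]
  haveI : Coh.IsQCoh ((Coh.push f).obj M) := Groth.L16.QcqsPush.isQCoh_push M f
  let V : X.affineOpens → X.Opens := fun U => U.1
  have hV : ∀ (n : ℕ) (a : Fin (n + 1) → X.affineOpens), IsAffineOpen (⨅ j, V (a j)) :=
    fun n a => IsAffineOpen.iInf fun j => (a j).2
  obtain ⟨e, he⟩ := Groth.L16.PushCompare.exists_HH_push f M V (iSup_affineOpens_eq_top X)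
    (fun n a q => Groth.L22.Inter.subsingleton_HU_preimage f M (hV n a) q (hz q))
    (fun n a q => subsingleton_of_forall_eq 0 (Groth.L17.hu_affine_eq_zero _ (hV n a) q)) i
  let e' : Coh.HH Y M i ≃ₗ[k] Coh.HH X ((Coh.push f).obj M) i :=
    { e with
      map_smul' := fun a x => by
        have h0 : Coh.toGlobal (Y ↘ Spec (CommRingCat.of k)) a =
            (show Coh.Γtop Y from f.appTop (Coh.toGlobal (X ↘ Spec (CommRingCat.of k)) a)) :=
          congrArg (fun g : Y ⟶ Spec (CommRingCat.of k) => Coh.toGlobal g a) hf.symm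
        exact (congrArg e (congrArg (fun c : Coh.Γtop Y => c • x) h0)).trans
          (he (Coh.toGlobal (X ↘ Spec (CommRingCat.of k)) a) x) }
  rw [hd_def, hd_def]
  exact e'.finrank_eq.symm

/-- Sections of twisted direct images. -/
theorem hd_zero_push [IsProper f] {G : Y.Modules} [Coh.IsQCoh G] {P : X.Modules} (hP : PicF.IsInvertible P) :
    hd k 0 (CohB1.tensorMod ((Scheme.Modules.pushforward f).obj G) P) =
      hd k 0 (CohB1.tensorMod G ((Scheme.Modules.pullback f).obj P)) := by
  haveI : f.IsOver (Spec (CommRingCat.of k)) := ⟨hf⟩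
  have hE : FlatMod.IsFinLocFree P := Groth.L16.Existence.isFinLocFree_of_isInvertible hP
  haveI := Groth.L17.ProjFormula.isIso_θ f P G hE
  rw [hd_iso k (tensorComm ((Scheme.Modules.pushforward f).obj G) P) 0,
    hd_iso k (tensorComm G ((Scheme.Modules.pullback f).obj P)) 0,
    hd_iso k (asIso (Groth.L17.ClosedPush.θ f G P)) 0]
  obtain ⟨e⟩ := Groth.L03.SurfFib.RelCanRank.nonempty_h0_push k f (CohB1.tensorMod ((Scheme.Modules.pullback f).obj P) G)
  rw [hd_def, hd_def]
  exact e.finrank_eq

end Push

section Rank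

variable {X Y : Scheme.{u}} [IsIntegral X] [IsIntegral Y]

theorem dim_eq_len [IsLocallyNoetherian X] {M : X.Modules} (hM : Coh.IsCoh M) :
    dim M = (len (genericPoint X) M).toNat := by
  letI : Field (X.presheaf.stalk (genericPoint X)) := inferInstanceAs (Field X.functionField)
  haveI : Module.Finite (X.presheaf.stalk (genericPoint X)) (M.presheaf.stalk (genericPoint X)) :=
    Groth.L15.Ref.finite_stalk hM _
  show _ = (Module.length _ _).toNat
  rw [Module.length_eq_finrank]
  rfl

set_option synthInstance.maxHeartbeats 100000 in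
/-- Generically finite morphisms have one point over the generic point. -/
theorem eq_genericPoint (f : Y ⟶ X) [LocallyOfFiniteType f] (hdom : f (genericPoint Y) = genericPoint X)
    (h : 0 < f.residueDegree (genericPoint Y)) (y : Y) (hy : f y = genericPoint X) : y = genericPoint Y := by
  letI := (f.residueFieldMap (genericPoint Y)).hom.toAlgebra
  have hfin : Module.Finite (X.residueField (f (genericPoint Y))) (Y.residueField (genericPoint Y)) :=
    Module.finite_of_finrank_pos h
  exact Groth.L19.GenericFinite.eq_genericPoint_of_finite f hdom hfin hy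

/-- The generic rank of the direct image of an invertible module is the degree. -/
theorem dim_push (f : Y ⟶ X) [IsProper f] [IsLocallyNoetherian X] (hdom : f (genericPoint Y) = genericPoint X)
    (h : 0 < f.residueDegree (genericPoint Y)) {G : Y.Modules} (hG : PicF.IsInvertible G) :
    dim ((Scheme.Modules.pushforward f).obj G) = f.residueDegree (genericPoint Y) := by
  haveI : IsLocallyNoetherian Y := LocallyOfFiniteType.isLocallyNoetherian f
  have hGc : Coh.IsCoh G := Groth.L18.Ample.isCoh_of_isInvertible hG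
  rw [dim_eq_len (Groth.L16.Exist.isCoh_pushforward f hGc)]
  refine Groth.L22.Inter.len_push_of_len_one f f.isClosedMap hdom (eq_genericPoint f hdom h) ?_
  obtain ⟨V, e, hyV, he⟩ := Groth.L18.Frame.exists_frame hG (genericPoint Y)
  exact Groth.L22.Inter.len_eq_one_of_bijective _ (Groth.L21.RR.bijective_germ_frame he hyV)

theorem dim_invertible [IsLocallyNoetherian Y] {G : Y.Modules} (hG : PicF.IsInvertible G) : dim G = 1 := by
  rw [dim_eq_len (Groth.L18.Ample.isCoh_of_isInvertible hG)]
  obtain ⟨V, e, hyV, he⟩ := Groth.L18.Frame.exists_frame hG (genericPoint Y)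
  rw [Groth.L22.Inter.len_eq_one_of_bijective _ (Groth.L21.RR.bijective_germ_frame he hyV)]
  rfl

variable (k : Type u) [Field k] [X.Over (Spec (CommRingCat.of k))] [IsProper (X ↘ Spec (CommRingCat.of k))]

/-- A map bijective at the generic point changes cohomology only in lower order. -/
theorem exists_bound_of_map {A : X.Modules} (hAmp : CohB1.IsAmple A) {L : X.Modules} (hL : PicF.IsInvertible L)
    {d : ℕ} (hd' : topologicalKrullDim X ≤ (d : ℕ)) {E F : X.Modules} (hE : Coh.IsCoh E) (hF : Coh.IsCoh F)
    (a : E ⟶ F) (h : Function.Bijective ((Groth.L00.Stk.F X (genericPoint X)).map a)) (i : ℕ) :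
    ∃ C : ℕ, ∀ m, hd k i (CohB1.tensorMod E (CohB1.tensorPow L m)) ≤
        hd k i (CohB1.tensorMod F (CohB1.tensorPow L m)) + C * (m + 1) ^ (d - 1) ∧
      hd k i (CohB1.tensorMod F (CohB1.tensorPow L m)) ≤
        hd k i (CohB1.tensorMod E (CohB1.tensorPow L m)) + C * (m + 1) ^ (d - 1) := by
  haveI := Groth.L21.RR.isNoetherian_of_proper (X := X) k
  haveI := hF.1
  obtain ⟨hK, hQ⟩ := CohKernel.isCoh_kernel_cokernel hE hF a
  have hI := Groth.L16.CohSupport.isCoh_image hE a
  have small : ∀ M : X.Modules, Coh.IsCoh M → genericPoint X ∉ CohB1.support M → ∀ q, ∃ C : ℕ, ∀ m,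
      hd k q (CohB1.tensorMod M (CohB1.tensorPow L m)) ≤ C * (m + 1) ^ (d - 1) := by
    intro M hM hy q
    have h1 : topologicalKrullDim (closure ((𝟙 X : X ⟶ X) '' CohB1.support M)) ≤ ((d - 1 : ℕ) : ℕ) := by
      rw [show ((𝟙 X : X ⟶ X) '' CohB1.support M) = CohB1.support M from Set.image_id _,
        (CohSupport.isClosed_support _ hM.2).closure_eq]
      rcases d with _ | d
      · exact (Topology.IsInducing.subtypeVal.topologicalKrullDim_le).trans hd'
      · exact Groth.L22.Big.dim_le_of_generic_notMem (CohSupport.isClosed_support _ hM.2) hy hd'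
    obtain ⟨C, hC⟩ := bdd_of_support (k := k) hL (fun Z _ _ g hg => bdd_dim hAmp hL (d - 1) Z g hg) (𝟙 X) hM h1 q
    refine ⟨C, fun m => (le_of_eq (hd_iso k (tensorIso (Iso.refl M) ?_) q)).trans (hC m)⟩
    exact Groth.L00.Tensor.tensorPowIso ((Scheme.Modules.pullbackId X).app L).symm m
  obtain ⟨C₁, hC₁⟩ := small _ hK (notMem_support_kernel a h.1) i
  obtain ⟨C₂, hC₂⟩ := small _ hK (notMem_support_kernel a h.1) (i + 1)
  obtain ⟨C₃, hC₃⟩ := small _ hQ ((notMem_support_cokernel_iff a).2 h.2) i
  obtain ⟨C₄, hC₄⟩ := small _ hQ ((notMem_support_cokernel_iff a).2 h.2) (i - 1)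
  refine ⟨C₁ + C₂ + C₃ + C₄, fun m => ?_⟩
  have hP := Groth.L18.Ample.isInvertible_tensorPow hL m
  have s₁ := shortExact_tensor hP (Groth.L16.Devissage.shortExact_kernel_image a)
  have s₂ := shortExact_tensor hP (Groth.L16.Devissage.shortExact_image_cokernel a)
  have l₁ := hd_mid_le k s₁ (isCoh_tensor hP hK) (isCoh_tensor hP hE) (isCoh_tensor hP hI) i
  have r₁ := hd_right_le k s₁ (isCoh_tensor hP hK) (isCoh_tensor hP hE) (isCoh_tensor hP hI) i
  have l₂ := hd_mid_le k s₂ (isCoh_tensor hP hI) (isCoh_tensor hP hF) (isCoh_tensor hP hQ) i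
  have r₂ := hd_left_le k s₂ (isCoh_tensor hP hI) (isCoh_tensor hP hF) (isCoh_tensor hP hQ) i
  simp only [ShortComplex.map_X₁, ShortComplex.map_X₂, ShortComplex.map_X₃,
    show ∀ M, (tensorRightF (CohB1.tensorPow L m)).obj M = CohB1.tensorMod M (CohB1.tensorPow L m) from fun _ => rfl]
    at l₁ r₁ l₂ r₂
  have := hC₁ m
  have := hC₂ m
  have := hC₃ m
  have := hC₄ m
  simp only [Nat.add_mul]
  omega

/-- Cohomology of powers with coefficients depends on the generic rank up to lower order. -/
theorem exists_bound_of_dim {A : X.Modules} (hAmp : CohB1.IsAmple A) {L : X.Modules} (hL : PicF.IsInvertible L)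
    {d : ℕ} (hd' : topologicalKrullDim X ≤ (d : ℕ)) {E F : X.Modules} (hE : Coh.IsCoh E) (hF : Coh.IsCoh F)
    (h : dim E = dim F) (i : ℕ) :
    ∃ C : ℕ, ∀ m, hd k i (CohB1.tensorMod E (CohB1.tensorPow L m)) ≤
        hd k i (CohB1.tensorMod F (CohB1.tensorPow L m)) + C * (m + 1) ^ (d - 1) ∧
      hd k i (CohB1.tensorMod F (CohB1.tensorPow L m)) ≤
        hd k i (CohB1.tensorMod E (CohB1.tensorPow L m)) + C * (m + 1) ^ (d - 1) := by
  haveI := Groth.L21.RR.isNoetherian_of_proper (X := X) k
  letI : Field (X.presheaf.stalk (genericPoint X)) := inferInstanceAs (Field X.functionField)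
  haveI := Groth.L15.Ref.finite_stalk hE (genericPoint X)
  haveI := Groth.L15.Ref.finite_stalk hF (genericPoint X)
  haveI := hE.1
  obtain ⟨I, φ, hI, hφ⟩ := Groth.L17.GenericTrivPush.exists_idealMul_hom E F hE hF (genericPoint X)
    (LinearEquiv.ofFinrankEq (R := X.presheaf.stalk (genericPoint X))
      (E.presheaf.stalk (genericPoint X)) (F.presheaf.stalk (genericPoint X)) h)
  haveI := hφ
  haveI := Groth.L17.GenericTrivPush.isIso_stalk_idealMulι I E hI
  have hIE : Coh.IsCoh ((Dual3.idealMul I).obj E) := Groth.L17.IdealMulSec.isCoh_idealMul I E hE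
  obtain ⟨C₁, h₁⟩ := exists_bound_of_map k hAmp hL hd' hIE hF φ
    (ConcreteCategory.bijective_of_isIso ((Groth.L21.Mod.stalkF X (genericPoint X)).map φ)) i
  obtain ⟨C₂, h₂⟩ := exists_bound_of_map k hAmp hL hd' hIE hE (Dual3.idealMulι I E)
    (ConcreteCategory.bijective_of_isIso ((Groth.L21.Mod.stalkF X (genericPoint X)).map (Dual3.idealMulι I E))) i
  refine ⟨C₁ + C₂, fun m => ?_⟩
  have := h₁ m
  have := h₂ m
  simp only [Nat.add_mul]
  omega

end Rank

end Groth.L03.Growth

namespace Groth.L03.Growth

/-- The source of a generically finite morphism has the dimension of the target. -/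
theorem dim_source {X Y : Scheme.{u}} (k : Type u) [Field k] [X.Over (Spec (CommRingCat.of k))]
    [Y.Over (Spec (CommRingCat.of k))] [IsIntegral X] [IsIntegral Y] [IsProper (X ↘ Spec (CommRingCat.of k))]
    (f : Y ⟶ X) [IsProper f] (hf : f ≫ (X ↘ Spec (CommRingCat.of k)) = Y ↘ Spec (CommRingCat.of k))
    (hdom : f (genericPoint Y) = genericPoint X) (h : 0 < f.residueDegree (genericPoint Y))
    {n : ℕ} (hn : topologicalKrullDim X = n) : topologicalKrullDim Y = n := by
  obtain ⟨a, b, ha, hb, hab⟩ := Groth.L22.FibreDim.exists_dim_closure_add k f hf (genericPoint Y)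
  have hsing : closure ({genericPoint Y} : Set Y) ∩ f ⁻¹' {f (genericPoint Y)} = {genericPoint Y} := by
    refine Set.Subset.antisymm (fun x hx => ?_) (Set.singleton_subset_iff.2 ⟨subset_closure rfl, rfl⟩)
    exact eq_genericPoint f hdom h x (hx.2.trans hdom)
  rw [hsing] at hb
  haveI : DiscreteTopology ({genericPoint Y} : Set Y) := inferInstance
  have hle : topologicalKrullDim ({genericPoint Y} : Set Y) ≤ 0 := topologicalKrullDim_zero_of_discreteTopology _
  rw [hb] at hle
  have hb0 : b ≤ 0 := by exact_mod_cast hle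
  rw [hdom, show closure ({genericPoint X} : Set X) = Set.univ from genericPoint_spec X,
    IsHomeomorph.topologicalKrullDim_eq _ (Homeomorph.Set.univ X).isHomeomorph, hn] at ha
  rw [show closure ({genericPoint Y} : Set Y) = Set.univ from genericPoint_spec Y,
    IsHomeomorph.topologicalKrullDim_eq _ (Homeomorph.Set.univ Y).isHomeomorph] at hab
  rw [hab]
  have : n = a := by exact_mod_cast ha
  exact_mod_cast (show a + b = n by omega)

end Groth.L03.Growth
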