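import Groth.Agent.L03.Growth.Stable
import Groth.Agent.L11.Asymp.Basic
import Groth.Agent.L18.GlobGen
import Groth.Agent.L21.RR.PicFieldExt

/-!
Cohomology of powers of a pulled back invertible module grows at most like the dimension of the image.
-/

set_option autoImplicit false
set_option backward.isDefEq.respectTransparency false
set_option linter.style.haveILetI false
set_option linter.unusedSectionVars false
universe u

open CategoryTheory CategoryTheory.Limits AlgebraicGeometry TopologicalSpace

noncomputable section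

namespace Groth.L03.Growth

open Groth.L16 Groth.L03.Euler
open Groth.L11.Asymp (hd hd_def hd_iso hd_mid_le hd_left_le hd_of_isZero hd_of_subsingleton)
open Groth.L00.Tensor (tensorIso tensorAssoc tensorComm tensorUnitRight tensorUnitLeft)

variable {k : Type u} [Field k] {X : Scheme.{u}}

/-- The bound on a scheme over `X`. -/
def Bdd {Z : Scheme.{u}} [Z.Over (Spec (CommRingCat.of k))] (g : Z ⟶ X) (L : X.Modules) (d : ℕ) (F : Z.Modules) :
    Prop :=
  ∀ i : ℕ, ∃ C : ℕ, ∀ m : ℕ,
    hd k i (CohB1.tensorMod F (CohB1.tensorPow ((Scheme.Modules.pullback g).obj L) m)) ≤ C * (m + 1) ^ d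

theorem dim_mono' {S T : Set X} (h : S ⊆ T) : topologicalKrullDim S ≤ topologicalKrullDim T :=
  (Topology.IsEmbedding.inclusion h).isInducing.topologicalKrullDim_le

/-- From schemes to modules with small image. -/
theorem bdd_of_support {L : X.Modules} (hL : PicF.IsInvertible L) {d : ℕ}
    (H : ∀ (Z : Scheme.{u}) [Z.Over (Spec (CommRingCat.of k))] [IsProper (Z ↘ Spec (CommRingCat.of k))]
      (g : Z ⟶ X), topologicalKrullDim (closure (Set.range g)) ≤ (d : ℕ) →
        ∀ F : Z.Modules, Coh.IsCoh F → Bdd (k := k) g L d F)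
    {Y : Scheme.{u}} [Y.Over (Spec (CommRingCat.of k))] [IsProper (Y ↘ Spec (CommRingCat.of k))]
    (g : Y ⟶ X) {F : Y.Modules}
    (hF : Coh.IsCoh F) (hd' : topologicalKrullDim (closure (g '' CohB1.support F)) ≤ (d : ℕ)) :
    Bdd (k := k) g L d F := by
  haveI := Groth.L21.RR.isNoetherian_of_proper (X := Y) k
  haveI : Y.IsSeparated := ⟨by rw [← terminal.comp_from (Y ↘ Spec (CommRingCat.of k))]; infer_instance⟩
  haveI := hF.1
  let J := SchSupport.annIdeal hF
  haveI := SchSupport.isIso_unit_annIdeal hF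
  let Z := J.subscheme
  let j : Z ⟶ Y := J.subschemeι
  let M := (Scheme.Modules.pullback j).obj F
  have hM : Coh.IsCoh M := Groth.L17.KilledUnit.isCoh_pullback_of_killed j F hF (SchSupport.killed_ker hF)
  let φ : (Coh.push j).obj M ≅ F :=
    (asIso ((Scheme.Modules.pullbackPushforwardAdjunction J.subschemeι).unit.app F)).symm
  have hrange : Set.range j = CohB1.support F :=
    (Scheme.IdealSheafData.range_subschemeι J).trans (SchSupport.coe_support_annIdeal hF)
  letI : Z.Over (Spec (CommRingCat.of k)) := ⟨j ≫ Y ↘ Spec (CommRingCat.of k)⟩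
  haveI : IsProper (Z ↘ Spec (CommRingCat.of k)) :=
    inferInstanceAs (IsProper (j ≫ Y ↘ Spec (CommRingCat.of k)))
  intro i
  obtain ⟨C, hC⟩ := H Z (j ≫ g) (by
    refine le_trans (dim_mono' (closure_mono ?_)) hd'
    rintro _ ⟨z, rfl⟩
    exact ⟨j z, hrange ▸ ⟨z, rfl⟩, rfl⟩) M hM i
  refine ⟨C, fun m => ?_⟩
  obtain ⟨π⟩ := Groth.L05.EulerDiv.nonempty_pullback_tensorPow j ((Scheme.Modules.pullback g).obj L) m
  have hP := Groth.L18.Ample.isInvertible_tensorPow (Groth.L18.Ample.isInvertible_pullback g hL) m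
  rw [← hd_iso k (tensorIso φ (Iso.refl _)) i, hd_def, Groth.L22.Big.finrank_push k j rfl hP M hM.1, ← hd_def]
  exact (hd_iso k (tensorIso (Iso.refl M) (π ≪≫ Groth.L00.Tensor.tensorPowIso
    ((Scheme.Modules.pullbackComp j g).app L) m)) i).trans_le (hC m)

/-- The bound on every scheme over a projective variety. -/
theorem bdd_dim [AlgebraicGeometry.IsNoetherian X] {A : X.Modules} (hA : CohB1.IsAmple A) {L : X.Modules}
    (hL : PicF.IsInvertible L) : ∀ (d : ℕ) (Z : Scheme.{u}) [Z.Over (Spec (CommRingCat.of k))]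
    [IsProper (Z ↘ Spec (CommRingCat.of k))] (g : Z ⟶ X),
      topologicalKrullDim (closure (Set.range g)) ≤ (d : ℕ) →
        ∀ F : Z.Modules, Coh.IsCoh F → Bdd (k := k) g L d F := by
  intro d
  induction d using Nat.strong_induction_on with
  | _ d ih =>
    intro Z _ _ g hg F hF
    haveI := Groth.L21.RR.isNoetherian_of_proper (X := Z) k
    haveI : Z.IsSeparated := ⟨by rw [← terminal.comp_from (Z ↘ Spec (CommRingCat.of k))]; infer_instance⟩
    refine Devissage.devissage_ideals (P := fun F => Bdd (k := k) g L d F)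
      (fun M N φ h i => ?_) (fun M h i => ⟨0, fun m => ?_⟩) (fun S hS h₁ h₂ h₃ a₁ a₃ i => ?_)
      (fun W j hj hW I ι hι hI => ?_) hF
    · obtain ⟨C, hC⟩ := h i
      exact ⟨C, fun m => (hd_iso k (tensorIso φ.some.symm (Iso.refl _)) i).trans_le (hC m)⟩
    · exact (le_of_eq (hd_of_isZero k (show IsZero (CohB1.tensorMod M _) from
        (Groth.L00.Tensor.tensorRightF _).map_isZero h) i)).trans (Nat.zero_le _)
    · obtain ⟨C₁, hC₁⟩ := a₁ i
      obtain ⟨C₃, hC₃⟩ := a₃ i
      refine ⟨C₁ + C₃, fun m => ?_⟩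
      have hP := Groth.L18.Ample.isInvertible_tensorPow (Groth.L18.Ample.isInvertible_pullback g hL) m
      rw [Nat.add_mul]
      exact (hd_mid_le k (shortExact_tensor hP hS) (isCoh_tensor hP h₁) (isCoh_tensor hP h₂) (isCoh_tensor hP h₃) i).trans
        (Nat.add_le_add (hC₁ m) (hC₃ m))
    haveI := hj; haveI := hW; haveI := hι; haveI := hI
    letI : W.Over (Spec (CommRingCat.of k)) := ⟨j ≫ Z ↘ Spec (CommRingCat.of k)⟩
    haveI : IsProper (W ↘ Spec (CommRingCat.of k)) :=
      inferInstanceAs (IsProper (j ≫ Z ↘ Spec (CommRingCat.of k)))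
    haveI := Groth.L21.RR.isNoetherian_of_proper (X := W) k
    let f := j ≫ g
    let N := (Scheme.Modules.pullback f).obj L
    have hN : PicF.IsInvertible N := Groth.L18.Ample.isInvertible_pullback f hL
    suffices Bdd (k := k) f L d I by
      intro i
      obtain ⟨C, hC⟩ := this i
      refine ⟨C, fun m => ?_⟩
      obtain ⟨π⟩ := Groth.L05.EulerDiv.nonempty_pullback_tensorPow j ((Scheme.Modules.pullback g).obj L) m
      rw [hd_def, Groth.L22.Big.finrank_push k j rfl (Groth.L18.Ample.isInvertible_tensorPow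
        (Groth.L18.Ample.isInvertible_pullback g hL) m) I hI, ← hd_def]
      exact (hd_iso k (tensorIso (Iso.refl I) (π ≪≫ Groth.L00.Tensor.tensorPowIso
        ((Scheme.Modules.pullbackComp j g).app L) m)) i).trans_le (hC m)
    -- the image is the closure of the image of the generic point
    set x := f (genericPoint W) with hx
    have hrf : Set.range f ⊆ closure {x} := by
      rintro _ ⟨w, rfl⟩
      exact ((genericPoint_spec W).specializes (Set.mem_univ w)).map f.continuous |>.mem_closure
    have hcl : topologicalKrullDim (closure ({x} : Set X)) ≤ (d : ℕ) := by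
      refine (dim_mono' (closure_mono ?_)).trans hg
      rintro _ rfl
      exact ⟨j (genericPoint W), rfl⟩
    rcases d with _ | d
    · -- the image is a point
      intro i
      obtain ⟨V, e, hxV, he⟩ := Groth.L18.Frame.exists_frame hL x
      have hall : ∀ w : W, f w ∈ V := fun w => by
        have hw := hrf ⟨w, rfl⟩
        by_contra hwV
        have hne : f w ≠ x := fun h => hwV (h ▸ hxV)
        have h1 : topologicalKrullDim (closure ({f w} : Set X)) + 1 ≤ topologicalKrullDim (closure ({x} : Set X)) :=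
          topologicalKrullDim_add_one_le isClosed_closure isIrreducible_singleton.closure
            (closure_minimal (Set.singleton_subset_iff.2 hw) isClosed_closure) fun h =>
              hne ((specializes_iff_closure_subset.2 h.le).antisymm (specializes_iff_closure_subset.2 h.ge)).eq.symm
        have h2 := h1.trans hcl
        haveI := nonempty_irreducibleCloseds (S := closure ({f w} : Set X)) ⟨f w, subset_closure rfl⟩
        generalize ht : topologicalKrullDim (closure ({f w} : Set X)) = t at h2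
        have h3 : 0 ≤ t := ht ▸ Order.krullDim_nonneg
        exact absurd ((add_le_add_left h3 1).trans h2) (by norm_num)
      have htop : f ⁻¹ᵁ V = ⊤ := eq_top_iff.2 fun w _ => hall w
      have hfr := he.pullback f
      rw [← Groth.L18.Frame.rs_self N (le_rfl : f ⁻¹ᵁ V ≤ f ⁻¹ᵁ V) (Groth.L18.Frame.pull f L V e)] at hfr
      obtain ⟨u⟩ := Groth.L21.PicExt.nonempty_iso_of_isFrame_top (hfr.mono (le_of_eq htop.symm))
      refine ⟨hd k i I, fun m => le_of_eq ?_⟩
      rw [pow_zero, mul_one, hd_iso k (tensorIso (Iso.refl I) (Groth.L00.Tensor.tensorPowIso u.symm m ≪≫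
        Groth.L00.Tensor.tensorPowUnit W m) ≪≫ tensorUnitRight I) i]
    have hIc : Coh.IsCoh I := Groth.L16.Rees.RelVanish.isCoh_of_mono ι CohClosedPush.isCoh_structure
    obtain ⟨a₁, ha₁⟩ := Groth.L18.Ample.exists_forall_isGloballyGenerated hA L (Groth.L18.Ample.isCoh_of_isInvertible hL)
    obtain ⟨a₂, ha₂⟩ := Groth.L18.Ample.exists_forall_isGloballyGenerated hA (Coh.structureModule X)
      CohClosedPush.isCoh_structure
    let Aa := CohB1.tensorPow A (a₁ + a₂)
    have hAa : PicF.IsInvertible Aa := Groth.L18.Ample.isInvertible_tensorPow hA.1 _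
    have hs' := Groth.L18.GenLoc.isInvertible_tensor (Groth.L18.Ample.isInvertible_structureModule X) hAa
    have ht' := Groth.L18.GenLoc.isInvertible_tensor hL hAa
    obtain ⟨s, hsx⟩ := Groth.L18.Ample.exists_genLocus_mem_of_gg hs' (ha₂ _ (Nat.le_add_left _ _)) x
    obtain ⟨t, htx⟩ := Groth.L18.Ample.exists_genLocus_mem_of_gg ht' (ha₁ _ (Nat.le_add_right _ _)) x
    let Ts := (Scheme.Modules.pullback f).obj (CohB1.tensorMod (Coh.structureModule X) Aa)
    let Tt := (Scheme.Modules.pullback f).obj (CohB1.tensorMod L Aa)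
    -- multiplication by one section
    have key : ∀ {P : X.Modules} (hP : PicF.IsInvertible P) (σ : Coh.structureModule X ⟶ P),
        x ∈ CohB1.genLocus P σ → ∃ (Q : W.Modules) (S : ShortComplex W.Modules), S.ShortExact ∧ S.X₁ = I ∧
          S.X₂ = CohB1.tensorMod I ((Scheme.Modules.pullback f).obj P) ∧ S.X₃ = Q ∧ Coh.IsCoh Q ∧
          topologicalKrullDim (closure (f '' CohB1.support Q)) ≤ (d : ℕ) := by
      intro P hP σ hσ
      set τ := Groth.L18.Ample.pullHom f σ
      have hgl := Groth.L18.Ample.genLocus_pullHom f hP σ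
      have hτ : genericPoint W ∈ CohB1.genLocus _ τ := by rw [hgl]; exact hσ
      have hPi := Groth.L18.Ample.isInvertible_pullback f hP
      haveI : Mono (mulSection (Coh.structureModule W) τ) :=
        Groth.L22.Big.mono_mulSection k (Groth.L18.Ample.isInvertible_structureModule W) τ hτ
      haveI : Mono ((Groth.L00.Tensor.tensorRightF ((Scheme.Modules.pullback f).obj P)).map ι) :=
        (shortExact_tensor hPi (S := ShortComplex.mk ι (cokernel.π ι) (cokernel.condition ι))
          { exact := ShortComplex.exact_cokernel ι }).mono_f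
      haveI : Mono (mulSection I τ) := by
        haveI : Mono (ι ≫ mulSection (Coh.structureModule W) τ) := mono_comp ι _
        exact mono_of_mono_fac (Groth.L13.NefGrowth.bounded_dim.mulSection_natural ι τ)
      have hQc := (CohKernel.isCoh_kernel_cokernel hIc (isCoh_tensor hPi hIc) (mulSection I τ)).2
      refine ⟨_, ShortComplex.mk (mulSection I τ) (cokernel.π _) (cokernel.condition _),
        { exact := ShortComplex.exact_cokernel _ }, rfl, rfl, rfl, hQc, ?_⟩
      rw [support_cokernel_mulSection hIc hPi τ, hgl]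
      have hsub : f '' (CohB1.support I \ ((f ⁻¹ᵁ CohB1.genLocus P σ : W.Opens) : Set W)) ⊆
          closure {x} \ (CohB1.genLocus P σ : Set X) := by
        rintro _ ⟨w, hw, rfl⟩
        exact ⟨hrf ⟨w, rfl⟩, hw.2⟩
      refine (dim_mono' (closure_minimal hsub (isClosed_closure.sdiff (CohB1.genLocus P σ).2))).trans ?_
      have h1 := topologicalKrullDim_add_one_le
        (S := closure ({x} : Set X) \ (CohB1.genLocus P σ : Set X))
        (isClosed_closure.sdiff (CohB1.genLocus P σ).2) (isIrreducible_singleton (x := x)).closure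
        Set.sdiff_subset fun h => (h.ge (subset_closure rfl)).2 hσ
      exact Groth.L11.NumOrth.dim_succ_iff.1 (h1.trans hcl)
    obtain ⟨Qs, Ss, hSs, es1, es2, es3, hQs, hQsd⟩ := key hs' s hsx
    obtain ⟨Qt, St, hSt, et1, et2, et3, hQt, hQtd⟩ := key ht' t htx
    intro i
    obtain ⟨Cs, hCs⟩ := bdd_of_support hL (ih d (Nat.lt_succ_self d)) f hQs hQsd (i - 1)
    obtain ⟨Ct, hCt⟩ := bdd_of_support hL (ih d (Nat.lt_succ_self d)) f hQt hQtd i
    let r := fun m => hd k i (CohB1.tensorMod I (CohB1.tensorPow N m))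
    have step : ∀ m, r (m + 1) ≤ r m + Cs * (m + 2) ^ d + Ct * (m + 1) ^ d := by
      intro m
      have hNm := Groth.L18.Ample.isInvertible_tensorPow hN m
      have hNm1 := Groth.L18.Ample.isInvertible_tensorPow hN (m + 1)
      have hTs := Groth.L18.Ample.isInvertible_pullback f hs'
      have hTt := Groth.L18.Ample.isInvertible_pullback f ht'
      have l := hd_left_le k (shortExact_tensor hNm1 hSs)
        (isCoh_tensor hNm1 (es1 ▸ hIc)) (isCoh_tensor hNm1 (es2 ▸ isCoh_tensor hTs hIc))
        (isCoh_tensor hNm1 (es3 ▸ hQs)) i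
      have r' := hd_mid_le k (shortExact_tensor hNm hSt)
        (isCoh_tensor hNm (et1 ▸ hIc)) (isCoh_tensor hNm (et2 ▸ isCoh_tensor hTt hIc))
        (isCoh_tensor hNm (et3 ▸ hQt)) i
      simp only [ShortComplex.map_X₁, ShortComplex.map_X₂, ShortComplex.map_X₃, es1, es2, es3, et1, et2, et3] at l r'
      change hd k i (CohB1.tensorMod I (CohB1.tensorPow N (m + 1))) ≤
        hd k i (CohB1.tensorMod (CohB1.tensorMod I Ts) (CohB1.tensorPow N (m + 1))) +
          hd k (i - 1) (CohB1.tensorMod Qs (CohB1.tensorPow N (m + 1))) at l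
      change hd k i (CohB1.tensorMod (CohB1.tensorMod I Tt) (CohB1.tensorPow N m)) ≤
        r m + hd k i (CohB1.tensorMod Qt (CohB1.tensorPow N m)) at r'
      let pt (A B : X.Modules) := Groth.L29.DC.PullTensor.pullTensor f A B
      have e : CohB1.tensorMod (CohB1.tensorMod I Ts) (CohB1.tensorPow N (m + 1)) ≅
          CohB1.tensorMod (CohB1.tensorMod I Tt) (CohB1.tensorPow N m) :=
        tensorAssoc _ _ _ ≪≫ tensorIso (Iso.refl I)
          (tensorIso ((Scheme.Modules.pullback f).mapIso (tensorUnitLeft Aa)) (tensorComm (CohB1.tensorPow N m) N) ≪≫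
            (tensorAssoc _ N _).symm ≪≫ tensorIso (tensorComm _ N ≪≫ pt L Aa) (Iso.refl _)) ≪≫
          (tensorAssoc _ _ _).symm
      rw [hd_iso k e i] at l
      have h1 : hd k (i - 1) (CohB1.tensorMod Qs (CohB1.tensorPow N (m + 1))) ≤ Cs * (m + 2) ^ d := hCs (m + 1)
      have h2 : hd k i (CohB1.tensorMod Qt (CohB1.tensorPow N m)) ≤ Ct * (m + 1) ^ d := hCt m
      show hd k i (CohB1.tensorMod I (CohB1.tensorPow N (m + 1))) ≤ _
      omega
    refine ⟨r 0 + Cs + Ct, fun m => ?_⟩
    show r m ≤ _
    suffices r m ≤ r 0 + (Cs + Ct) * (m * (m + 1) ^ d) by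
      refine this.trans ?_
      have h1 : 1 ≤ (m + 1) ^ (d + 1) := Nat.one_le_pow _ _ (Nat.succ_pos m)
      have h2 : m * (m + 1) ^ d ≤ (m + 1) ^ (d + 1) := by
        rw [pow_succ']; exact Nat.mul_le_mul_right _ (Nat.le_succ m)
      nlinarith
    induction m with
    | zero => simp
    | succ m ihm =>
      refine (step m).trans ?_
      have h1 : (m + 1) ^ d ≤ (m + 2) ^ d := Nat.pow_le_pow_left (Nat.le_succ _) d
      have h2 : m * (m + 1) ^ d ≤ m * (m + 2) ^ d := Nat.mul_le_mul_left _ h1
      have h3 := Nat.mul_le_mul_left Ct h1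
      have h4 := Nat.mul_le_mul_left (Cs + Ct) h2
      have e1 : (Cs + Ct) * ((m + 1) * (m + 2) ^ d) =
          (Cs + Ct) * (m * (m + 2) ^ d) + Cs * (m + 2) ^ d + Ct * (m + 2) ^ d := by ring
      show _ ≤ r 0 + (Cs + Ct) * ((m + 1) * (m + 2) ^ d)
      omega

end Groth.L03.Growth
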