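import Groth.Agent.L13.NefGrowth.Main
import Groth.Agent.L16.ProjSpace.Ample
import Groth.Agent.L18.AmplePull
import Groth.Agent.L22.Inter.Fga
import Groth.Prelude.Def_W4c5asymptcohfnACF
import Mathlib.Analysis.SpecificLimits.Basic

/-!
Cohomology above the dimension of the stable base locus grows slower than the top power.
-/

set_option autoImplicit false
set_option backward.isDefEq.respectTransparency false
set_option linter.style.haveILetI false
set_option linter.unusedSectionVars false
universe u

open CategoryTheory CategoryTheory.Limits AlgebraicGeometry TopologicalSpace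

noncomputable section

namespace Groth.L03.Growth

open Groth.L16 Groth.L03.Euler
open Groth.L13.NefGrowth (hi hi_iso hi_le_add bnd sum_bnd_le)
open Groth.L00.Tensor (tensorIso tensorAssoc tensorPowAdd)

variable {k : Type u} [Field k]

/-- Points with large closure are avoided by a section of some positive power. -/
def Cut (d : ℕ) {Z : Scheme.{u}} (L : Z.Modules) : Prop :=
  ∀ z : Z, (d : WithBot ℕ∞) < topologicalKrullDim (closure ({z} : Set Z)) →
    ∃ (p : ℕ) (s : Coh.structureModule Z ⟶ CohB1.tensorPow L (p + 1)), z ∈ CohB1.genLocus _ s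

theorem Cut.pullback {d : ℕ} {X Z : Scheme.{u}} (j : Z ⟶ X) [IsClosedImmersion j] {L : X.Modules}
    (hL : PicF.IsInvertible L) (h : Cut d L) : Cut d ((Scheme.Modules.pullback j).obj L) := by
  intro z hz
  have he : topologicalKrullDim (closure ({j z} : Set X)) = topologicalKrullDim (closure ({z} : Set Z)) := by
    have hi : closure ({j z} : Set X) = j '' closure ({z} : Set Z) := by
      rw [← j.isClosedEmbedding.closure_image_eq, Set.image_singleton]
    rw [hi]
    exact (IsHomeomorph.topologicalKrullDim_eq _ (j.isEmbedding.homeomorphImage _).isHomeomorph).symm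
  obtain ⟨p, s, hs⟩ := h (j z) (by rw [he]; exact hz)
  obtain ⟨π⟩ := Groth.L05.EulerDiv.nonempty_pullback_tensorPow j L (p + 1)
  refine ⟨p, Groth.L18.Ample.pullHom j s ≫ π.hom, ?_⟩
  rw [Groth.L16.genLocus_comp_iso, Groth.L18.Ample.genLocus_pullHom j (Groth.L18.Ample.isInvertible_tensorPow hL (p + 1))]
  exact hs

/-- The bound on a scheme. -/
def Bounded (X : Scheme.{u}) [X.Over (Spec (CommRingCat.of k))] (d e : ℕ) (L F : X.Modules) : Prop :=
  ∀ i : ℕ, d < i → ∃ C : ℕ, ∀ n : ℕ, hi k (CohB1.tensorMod F (CohB1.tensorPow L n)) i ≤ C * bnd e n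

/-- From schemes to modules with small support. -/
theorem bounded_of_support {d e : ℕ}
    (H : ∀ (Z : Scheme.{u}) [Z.Over (Spec (CommRingCat.of k))] [IsProper (Z ↘ Spec (CommRingCat.of k))],
      topologicalKrullDim Z ≤ (d + e : ℕ) → ∀ (L : Z.Modules), PicF.IsInvertible L → Cut d L →
        ∀ F : Z.Modules, Coh.IsCoh F → Bounded (k := k) Z d e L F)
    {X : Scheme.{u}} [X.Over (Spec (CommRingCat.of k))] [IsProper (X ↘ Spec (CommRingCat.of k))]
    {L : X.Modules} (hL : PicF.IsInvertible L) (hc : Cut d L) {F : X.Modules}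
    (hF : Coh.IsCoh F) (hd : topologicalKrullDim (CohB1.support F) ≤ (d + e : ℕ)) :
    Bounded (k := k) X d e L F := by
  haveI := Groth.L21.RR.isNoetherian_of_proper (X := X) k
  haveI : X.IsSeparated := ⟨by rw [← terminal.comp_from (X ↘ Spec (CommRingCat.of k))]; infer_instance⟩
  obtain ⟨Z, j, M, hj, hM, ⟨φ⟩, hdim⟩ := Groth.L22.Big.exists_push_support k hF
  haveI := hj
  letI : Z.Over (Spec (CommRingCat.of k)) := ⟨j ≫ X ↘ Spec (CommRingCat.of k)⟩
  haveI : IsProper (Z ↘ Spec (CommRingCat.of k)) :=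
    inferInstanceAs (IsProper (j ≫ X ↘ Spec (CommRingCat.of k)))
  intro i hi'
  obtain ⟨C, hC⟩ := H Z (hdim.trans_le hd) _ (Groth.L18.Ample.isInvertible_pullback j hL)
    (hc.pullback j hL) M hM i hi'
  refine ⟨C, fun n => ?_⟩
  obtain ⟨π⟩ := Groth.L05.EulerDiv.nonempty_pullback_tensorPow j L n
  rw [← hi_iso (tensorIso φ (Iso.refl _)) i, hi,
    Groth.L22.Big.finrank_push k j rfl (Groth.L18.Ample.isInvertible_tensorPow hL n) M hM.1]
  exact (hi_iso (tensorIso (Iso.refl M) π) i).trans_le (hC n)

theorem bnd_le (e n : ℕ) : bnd e n * (n + 1) ≤ (n + 1) ^ e := by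
  cases e with
  | zero => simp [bnd]
  | succ e => exact le_of_eq (pow_succ _ _).symm

/-- The bound on every scheme. -/
theorem bounded_dim (d : ℕ) : ∀ (e : ℕ) (Z : Scheme.{u}) [Z.Over (Spec (CommRingCat.of k))]
    [IsProper (Z ↘ Spec (CommRingCat.of k))], topologicalKrullDim Z ≤ (d + e : ℕ) →
    ∀ (L : Z.Modules), PicF.IsInvertible L → Cut d L →
      ∀ F : Z.Modules, Coh.IsCoh F → Bounded (k := k) Z d e L F := by
  intro e
  induction e with
  | zero =>
    intro Z _ _ hd L _ _ F _ i hi'
    haveI := Groth.L21.RR.isNoetherian_of_proper (X := Z) k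
    refine ⟨0, fun n => ?_⟩
    haveI := Groth.L22.Inter.subsingleton_HH_of_dim hd (CohB1.tensorMod F (CohB1.tensorPow L n))
      (show d + 0 < i by omega)
    exact le_of_eq_of_le (Module.finrank_zero_of_subsingleton (R := k)) (Nat.zero_le _)
  | succ e ih =>
    intro Z _ _ hd L hL hc F hF
    haveI := Groth.L21.RR.isNoetherian_of_proper (X := Z) k
    haveI : Z.IsSeparated := ⟨by rw [← terminal.comp_from (Z ↘ Spec (CommRingCat.of k))]; infer_instance⟩
    refine Devissage.devissage_ideals (P := fun F => Bounded (k := k) Z d (e + 1) L F)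
      (fun M N φ h i hi' => ?_) (fun M h i hi' => ⟨0, fun n => ?_⟩) (fun S hS h₁ h₂ h₃ a₁ a₃ i hi' => ?_)
      (fun W j hj hW I ι hι hI => ?_) hF
    · obtain ⟨C, hC⟩ := h i hi'
      exact ⟨C, fun n => (hi_iso (tensorIso φ.some.symm (Iso.refl _)) i).trans_le (hC n)⟩
    · haveI : Subsingleton (Coh.HH Z (CohB1.tensorMod M (CohB1.tensorPow L n)) i) :=
        subsingleton_HH_of_isZero ((Groth.L00.Tensor.tensorRightF (CohB1.tensorPow L n)).map_isZero h) i
      exact le_of_eq_of_le (Module.finrank_zero_of_subsingleton (R := k)) (Nat.zero_le _)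
    · obtain ⟨C₁, hC₁⟩ := a₁ i hi'
      obtain ⟨C₃, hC₃⟩ := a₃ i hi'
      refine ⟨C₁ + C₃, fun n => ?_⟩
      have hP := Groth.L18.Ample.isInvertible_tensorPow hL n
      rw [Nat.add_mul]
      exact (hi_le_add (shortExact_tensor hP hS) (isCoh_tensor hP h₁) (isCoh_tensor hP h₂) (isCoh_tensor hP h₃) i).trans
        (Nat.add_le_add (hC₁ n) (hC₃ n))
    haveI := hj; haveI := hW; haveI := hι; haveI := hI
    letI : W.Over (Spec (CommRingCat.of k)) := ⟨j ≫ Z ↘ Spec (CommRingCat.of k)⟩
    haveI : IsProper (W ↘ Spec (CommRingCat.of k)) :=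
      inferInstanceAs (IsProper (j ≫ Z ↘ Spec (CommRingCat.of k)))
    haveI := Groth.L21.RR.isNoetherian_of_proper (X := W) k
    let N := (Scheme.Modules.pullback j).obj L
    have hN : PicF.IsInvertible N := Groth.L18.Ample.isInvertible_pullback j hL
    have hNc : Cut d N := hc.pullback j hL
    have hdW : topologicalKrullDim W ≤ (d + (e + 1) : ℕ) := (j.isClosedEmbedding.topologicalKrullDim_le).trans hd
    suffices Bounded (k := k) W d (e + 1) N I by
      intro i hi'
      obtain ⟨C, hC⟩ := this i hi'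
      refine ⟨C, fun n => ?_⟩
      obtain ⟨π⟩ := Groth.L05.EulerDiv.nonempty_pullback_tensorPow j L n
      rw [hi, Groth.L22.Big.finrank_push k j rfl (Groth.L18.Ample.isInvertible_tensorPow hL n) I hI]
      exact (hi_iso (tensorIso (Iso.refl I) π) i).trans_le (hC n)
    by_cases hsmall : topologicalKrullDim W ≤ (d : ℕ)
    · intro i hi'
      refine ⟨0, fun n => ?_⟩
      haveI := Groth.L22.Inter.subsingleton_HH_of_dim hsmall (CohB1.tensorMod I (CohB1.tensorPow N n)) hi'
      exact le_of_eq_of_le (Module.finrank_zero_of_subsingleton (R := k)) (Nat.zero_le _)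
    have hIc : Coh.IsCoh I := Groth.L16.Rees.RelVanish.isCoh_of_mono ι CohClosedPush.isCoh_structure
    obtain ⟨p, s, hs⟩ := hNc (genericPoint W) (by
      rw [genericPoint_closure, IsHomeomorph.topologicalKrullDim_eq _ (Homeomorph.Set.univ W).isHomeomorph]
      exact not_le.1 hsmall)
    let P := CohB1.tensorPow N (p + 1)
    have hPi : PicF.IsInvertible P := Groth.L18.Ample.isInvertible_tensorPow hN (p + 1)
    haveI : Mono (mulSection (Coh.structureModule W) s) :=
      Groth.L22.Big.mono_mulSection k (Groth.L18.Ample.isInvertible_structureModule W) s hs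
    haveI : Mono ((Groth.L00.Tensor.tensorRightF P).map ι) :=
      (shortExact_tensor hPi (S := ShortComplex.mk ι (cokernel.π ι) (cokernel.condition ι))
        { exact := ShortComplex.exact_cokernel ι }).mono_f
    haveI : Mono (mulSection I s) := by
      haveI : Mono (ι ≫ mulSection (Coh.structureModule W) s) := mono_comp ι _
      exact mono_of_mono_fac (Groth.L13.NefGrowth.bounded_dim.mulSection_natural ι s)
    let Q := cokernel (mulSection I s)
    let S := ShortComplex.mk (mulSection I s) (cokernel.π (mulSection I s)) (cokernel.condition _)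
    have hS : S.ShortExact := { exact := ShortComplex.exact_cokernel _ }
    have hQc : Coh.IsCoh Q := (CohKernel.isCoh_kernel_cokernel hIc (isCoh_tensor hPi hIc) (mulSection I s)).2
    have hQgen : genericPoint W ∉ CohB1.support Q := fun hmem => by
      rw [show Q = cokernel (mulSection I s) from rfl, support_cokernel_mulSection hIc hPi s] at hmem
      exact hmem.2 hs
    have hQd : topologicalKrullDim (CohB1.support Q) ≤ (d + e : ℕ) :=
      Groth.L22.Big.dim_le_of_generic_notMem (CohSupport.isClosed_support _ hQc.2) hQgen hdW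
    intro i hi'
    obtain ⟨C, hC⟩ := bounded_of_support ih hN hNc hQc hQd i hi'
    let g := fun n => hi k (CohB1.tensorMod I (CohB1.tensorPow N n)) i
    let M := ∑ r ∈ Finset.range (p + 1), g r
    have hrec : ∀ n, g n ≤ M + C * ∑ m ∈ Finset.range n, bnd e m := by
      intro n
      induction n using Nat.strong_induction_on with
      | _ n ihn =>
        rcases Nat.lt_or_ge n (p + 1) with hn | hn
        · exact (Finset.single_le_sum (f := g) (fun _ _ => Nat.zero_le _) (Finset.mem_range.2 hn)).trans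
            (Nat.le_add_right _ _)
        · obtain ⟨m, rfl⟩ : ∃ m, n = p + 1 + m := ⟨n - (p + 1), by omega⟩
          have hP := Groth.L18.Ample.isInvertible_tensorPow hN m
          have h := hi_le_add (k := k) (shortExact_tensor hP hS) (isCoh_tensor hP hIc)
            (isCoh_tensor hP (isCoh_tensor hPi hIc)) (isCoh_tensor hP hQc) i
          refine (le_of_eq (hi_iso ?_ i)).trans (h.trans ?_)
          · exact tensorIso (Iso.refl I) (tensorPowAdd N (p + 1) m).symm ≪≫ (tensorAssoc I P _).symm
          refine (Nat.add_le_add (ihn m (by omega)) (hC m)).trans ?_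
          rw [Nat.add_assoc, ← Nat.mul_add, ← Finset.sum_range_succ]
          exact Nat.add_le_add_left (Nat.mul_le_mul_left _ (Finset.sum_le_sum_of_subset
            (Finset.range_subset_range.2 (by omega)))) _
    refine ⟨M + C, fun n => (hrec n).trans ?_⟩
    rw [Nat.add_mul]
    exact Nat.add_le_add (Nat.le_mul_of_pos_right _ (pow_pos (Nat.succ_pos n) e))
      (Nat.mul_le_mul_left _ (sum_bnd_le e n))

end Groth.L03.Growth

namespace Groth.L03.Growth

open Groth.L00.Tensor (tensorUnitLeft tensorIso)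
open Filter
open scoped Topology

variable {k : Type u} [Field k]

/-- A sequence of size `o(m^n)` has vanishing normalised upper limit. -/
theorem limsup_eq_zero (f : ℕ → ℕ) (n C : ℕ) (h : ∀ m, f m * (m + 1) ≤ C * (m + 1) ^ n) (c : ℝ) :
    limsup (fun m : ℕ => (f m : ℝ) * c / (m : ℝ) ^ n) atTop = 0 := by
  refine Tendsto.limsup_eq (squeeze_zero_norm' (a := fun m : ℕ => (C : ℝ) * 2 ^ n * |c| / (m : ℝ)) ?_
    (tendsto_const_nhds.div_atTop tendsto_natCast_atTop_atTop))
  filter_upwards [eventually_ge_atTop 1] with m hm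
  have h1 : (1 : ℝ) ≤ m := by exact_mod_cast hm
  have h2 : (f m : ℝ) * ((m : ℝ) + 1) ≤ C * ((m : ℝ) + 1) ^ n := by exact_mod_cast h m
  have h3 : ((m : ℝ) + 1) ^ n ≤ 2 ^ n * (m : ℝ) ^ n := by
    rw [← mul_pow]
    exact pow_le_pow_left₀ (by positivity) (by linarith) n
  have h4 : (f m : ℝ) * m ≤ C * (2 ^ n * (m : ℝ) ^ n) :=
    ((mul_le_mul_of_nonneg_left (by linarith) (Nat.cast_nonneg _)).trans h2).trans
      (mul_le_mul_of_nonneg_left h3 (Nat.cast_nonneg _))
  rw [Real.norm_eq_abs, abs_div, abs_mul, Nat.abs_cast, abs_pow, Nat.abs_cast,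
    div_le_div_iff₀ (pow_pos (by linarith) n) (by linarith)]
  calc (f m : ℝ) * |c| * m = (f m : ℝ) * m * |c| := by ring
    _ ≤ C * (2 ^ n * (m : ℝ) ^ n) * |c| := mul_le_mul_of_nonneg_right h4 (abs_nonneg c)
    _ = C * 2 ^ n * |c| * (m : ℝ) ^ n := by ring

/-- Outside the stable base locus sections of powers do not vanish. -/
theorem cut_of_stableBaseLocus {X : Scheme.{u}} (L : X.Modules) {d : ℕ}
    (hd : topologicalKrullDim ↥(W4c5asymptcohfn.stableBaseLocus X L) ≤ (d : WithBot ℕ∞)) : Cut d L := by
  intro z hz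
  have hB : IsClosed (W4c5asymptcohfn.stableBaseLocus X L) := by
    refine isClosed_iInter fun m => ?_
    have : W4c5asymptcohfn.baseLocus X (CohB1.tensorPow L (m + 1)) =
        ⋂ s, ((CohB1.genLocus (CohB1.tensorPow L (m + 1)) s : X.Opens) : Set X)ᶜ := by
      ext x
      simp [W4c5asymptcohfn.baseLocus]
    rw [this]
    exact isClosed_iInter fun s => (CohB1.genLocus _ s).2.isClosed_compl
  have hne : z ∉ W4c5asymptcohfn.stableBaseLocus X L := fun hzB =>
    not_le.2 hz ((cut_of_stableBaseLocus.dim_mono (closure_minimal (Set.singleton_subset_iff.2 hzB) hB)).trans hd)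
  simp only [W4c5asymptcohfn.stableBaseLocus, W4c5asymptcohfn.baseLocus, Set.mem_iInter, Set.mem_ofPred_eq,
    not_forall, not_not] at hne
  obtain ⟨m, s, hs⟩ := hne
  exact ⟨m, s, hs⟩
where
  dim_mono {X : Scheme.{u}} {S T : Set X} (h : S ⊆ T) : topologicalKrullDim S ≤ topologicalKrullDim T :=
    (Topology.IsEmbedding.inclusion h).isInducing.topologicalKrullDim_le

/-- Cohomology of powers above the dimension of the stable base locus. -/
theorem hhat_eq_zero {X : Scheme.{u}} [X.Over (Spec (CommRingCat.of k))] [IsProper (X ↘ Spec (CommRingCat.of k))]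
    {n : ℕ} (hn : topologicalKrullDim X = n) {L : X.Modules} (hL : PicF.IsInvertible L) {d : ℕ}
    (hd : topologicalKrullDim ↥(W4c5asymptcohfn.stableBaseLocus X L) ≤ (d : WithBot ℕ∞)) {i : ℕ} (hi' : d < i) :
    W4c5asymptcohfn.hhat k X n i L = 0 := by
  haveI := Groth.L21.RR.isNoetherian_of_proper (X := X) k
  obtain ⟨C, hC⟩ := bounded_dim (k := k) d (n - d) X
    (hn.le.trans (by exact_mod_cast (show n ≤ d + (n - d) by omega))) L hL (cut_of_stableBaseLocus L hd)
    (Coh.structureModule X) Groth.L16.CohClosedPush.isCoh_structure i hi'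
  refine limsup_eq_zero (fun m => Module.finrank k (Coh.HH X (CohB1.tensorPow L m) i)) n C (fun m => ?_) _
  have h := hC m
  rw [Groth.L13.NefGrowth.hi_iso (tensorUnitLeft _) i] at h
  refine (Nat.mul_le_mul_right _ h).trans ?_
  rw [Nat.mul_assoc]
  exact Nat.mul_le_mul_left _ ((bnd_le _ m).trans (Nat.pow_le_pow_right (Nat.succ_pos m) (Nat.sub_le n d)))

end Groth.L03.Growth
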